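import Cfsg.Agent.Lib.Minimal.SmallTwo
import Cfsg.Agent.Lib.Involutions.ThompsonTransfer
import Cfsg.Agent.Lib.TwoGroups.CyclicMax
import Cfsg.Agent.Lib.TwoGroups.NormalAbelian
import Cfsg.Agent.Lib.TwoGroups.RankOne
import Mathlib.GroupTheory.SpecificGroups.KleinFour

/-!
A four-group acting on a perfect group of 2-rank at least two centralises a pair of commuting
involutions "one element at a time": some nontrivial element of it fixes a four-subgroup pointwise.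
-/

set_option autoImplicit false
set_option linter.unusedSectionVars false
set_option linter.unusedSimpArgs false

namespace CfsgLib.ClassTech.FourGroupRank

open scoped Pointwise commutatorElement

open CfsgLib.TwoGroups

variable {G : Type*} [Group G]

/-- Some nontrivial element of `U` commutes with two distinct commuting involutions of `A`. -/
def Good (A U : Subgroup G) : Prop :=
  ∃ u ∈ U, u ≠ 1 ∧ ∃ e f : G, e ∈ A ∧ f ∈ A ∧ e * e = 1 ∧ f * f = 1 ∧ e ≠ 1 ∧ f ≠ 1 ∧ e ≠ f ∧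
    e * f = f * e ∧ u * e = e * u ∧ u * f = f * u

/-- A maximal 2-subgroup. -/
def IsMax (Q K : Subgroup G) : Prop :=
  Q ≤ K ∧ IsPGroup 2 Q ∧ ∀ T : Subgroup G, Q ≤ T → T ≤ K → IsPGroup 2 T → T ≤ Q

theorem exists_isMax [Finite G] {T K : Subgroup G} (hTK : T ≤ K) (hT : IsPGroup 2 T) :
    ∃ Q, T ≤ Q ∧ IsMax Q K := by
  obtain ⟨Q, hQ⟩ := Finite.exists_le_maximal (p := fun Q : Subgroup G => Q ≤ K ∧ IsPGroup 2 Q)
    (a := T) ⟨hTK, hT⟩
  exact ⟨Q, hQ.1, hQ.2.1.1, hQ.2.1.2, fun R h1 h2 h3 => hQ.2.2 ⟨h2, h3⟩ h1⟩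

theorem IsMax.eq_sylow [Finite G] {Q K : Subgroup G} (h : IsMax Q K) :
    ∃ P : Sylow 2 K, (P : Subgroup K) = Q.subgroupOf K := by
  obtain ⟨P, hP⟩ := (h.2.1.of_equiv (Subgroup.subgroupOfEquivOfLe h.1).symm).exists_le_sylow
  refine ⟨P, le_antisymm (fun x hx => ?_) hP⟩
  refine h.2.2 ((P : Subgroup K).map K.subtype) (fun q hq => ?_) (Subgroup.map_subtype_le _)
    (P.isPGroup'.map _) (Subgroup.mem_map_of_mem _ hx)
  exact ⟨⟨q, h.1 hq⟩, hP hq, rfl⟩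

theorem IsMax.exists_conj [Finite G] {Q K : Subgroup G} (h : IsMax Q K) {T : Subgroup G}
    (hT : T ≤ K) (hT2 : IsPGroup 2 T) : ∃ k ∈ K, ∀ t ∈ T, k * t * k⁻¹ ∈ Q := by
  haveI : Fact (Nat.Prime 2) := ⟨Nat.prime_two⟩
  obtain ⟨P, hP⟩ := h.eq_sylow
  obtain ⟨R, hR⟩ := (hT2.of_equiv (Subgroup.subgroupOfEquivOfLe hT).symm).exists_le_sylow
  obtain ⟨k, hk⟩ := MulAction.exists_smul_eq K R P
  refine ⟨k, k.2, fun t ht => ?_⟩
  have h1 : (⟨t, hT ht⟩ : K) ∈ (R : Subgroup K) := hR ht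
  have h2 : MulAut.conj k • (⟨t, hT ht⟩ : K) ∈ MulAut.conj k • (R : Subgroup K) :=
    Subgroup.smul_mem_pointwise_smul _ _ _ h1
  rw [← Sylow.coe_subgroup_smul] at h2
  have h3 : k • R = P := hk
  rw [h3, hP, Subgroup.mem_subgroupOf] at h2
  simpa using h2

theorem IsMax.inf_normal [Finite G] {Q A K : Subgroup G} (h : IsMax Q K) (hAK : A ≤ K)
    (hN : ∀ k ∈ K, ∀ a ∈ A, k * a * k⁻¹ ∈ A) : IsMax (Q ⊓ A) A := by
  refine ⟨inf_le_right, h.2.1.to_le inf_le_left, fun T hQT hTA hT2 => ?_⟩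
  obtain ⟨k, hk, hkT⟩ := h.exists_conj (hTA.trans hAK) hT2
  have hle : T.map (MulAut.conj k).toMonoidHom ≤ Q ⊓ A := by
    rintro x ⟨t, ht, rfl⟩
    exact ⟨hkT t ht, hN k hk t (hTA ht)⟩
  have hc : Nat.card (T.map (MulAut.conj k).toMonoidHom) = Nat.card T :=
    Subgroup.card_map_of_injective (MulAut.conj k).injective
  exact (Subgroup.eq_of_le_of_card_ge hQT (hc ▸ Subgroup.card_le_of_le hle)).ge

/-- The subgroup `A ∪ A u`, for an involution `u` normalising `A`. -/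
def adjoin (A : Subgroup G) (u : G) (hu : u * u = 1) (hN : ∀ a ∈ A, u * a * u⁻¹ ∈ A) :
    Subgroup G where
  carrier := {g | g ∈ A ∨ g * u ∈ A}
  one_mem' := Or.inl (one_mem A)
  mul_mem' := fun {g h} hg hh => by
    have e : u⁻¹ = u := inv_eq_of_mul_eq_one_right hu
    rcases hg with hg | hg <;> rcases hh with hh | hh
    · exact Or.inl (mul_mem hg hh)
    · exact Or.inr (by rw [mul_assoc]; exact mul_mem hg hh)
    · refine Or.inr ?_
      have : g * h * u = (g * u) * (u * h * u⁻¹) := by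
        rw [e]; simp only [mul_assoc]; rw [← mul_assoc u u, hu, one_mul]
      rw [this]; exact mul_mem hg (hN h hh)
    · refine Or.inl ?_
      have : g * h = (g * u) * (u * (h * u) * u⁻¹) := by
        rw [e]; simp only [mul_assoc]; rw [hu, ← mul_assoc u u, hu, one_mul, mul_one]
      rw [this]; exact mul_mem hg (hN _ hh)
  inv_mem' := fun {g} hg => by
    rcases hg with hg | hg
    · exact Or.inl (inv_mem hg)
    · refine Or.inr ?_
      have : g⁻¹ * u = u * (g * u)⁻¹ * u⁻¹ := by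
        rw [mul_inv_rev, inv_eq_of_mul_eq_one_right hu, ← mul_assoc, hu, one_mul]
      rw [this]; exact hN _ (inv_mem hg)

theorem mem_adjoin {A : Subgroup G} {u : G} {hu : u * u = 1} {hN : ∀ a ∈ A, u * a * u⁻¹ ∈ A}
    {g : G} : g ∈ adjoin A u hu hN ↔ g ∈ A ∨ g * u ∈ A := Iff.rfl

theorem sq_mem_of_mem_adjoin {A : Subgroup G} {u : G} {hu : u * u = 1}
    {hN : ∀ a ∈ A, u * a * u⁻¹ ∈ A} {g : G} (hg : g ∈ adjoin A u hu hN) : g * g ∈ A := by
  rcases hg with hg | hg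
  · exact mul_mem hg hg
  · have : g * g = (g * u) * (u * (g * u) * u⁻¹) := by
      rw [inv_eq_of_mul_eq_one_right hu]; simp only [mul_assoc]
      rw [hu, ← mul_assoc u u, hu, one_mul, mul_one]
    rw [this]; exact mul_mem hg (hN _ hg)

theorem isPGroup_adjoin {A : Subgroup G} (hA : IsPGroup 2 A) {u : G} {hu : u * u = 1}
    {hN : ∀ a ∈ A, u * a * u⁻¹ ∈ A} : IsPGroup 2 (adjoin A u hu hN) := by
  rintro ⟨g, hg⟩
  obtain ⟨k, hk⟩ := hA ⟨g * g, sq_mem_of_mem_adjoin hg⟩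
  refine ⟨k + 1, Subtype.ext ?_⟩
  have := congrArg Subtype.val hk
  simp only [SubmonoidClass.coe_pow, OneMemClass.coe_one] at this ⊢
  rw [pow_succ', pow_mul, pow_two]; exact this

theorem exists_conj_of_perfect [Finite G] {A S B : Subgroup G} (hperf : ⁅A, A⁆ = A)
    (hS : IsMax S A) (hBS : B ≤ S) {s : G} (hsS : s ∈ S) (hsB : s ∉ B) (hs : s * s = 1)
    (htwo : ∀ σ ∈ S, ∀ τ ∈ S, σ ∉ B → τ ∉ B → σ * τ ∈ B) :
    ∃ g ∈ A, g * s * g⁻¹ ∈ B := by
  by_contra! hno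
  haveI : Fact (Nat.Prime 2) := ⟨Nat.prime_two⟩
  have hsA : s ∈ A := hS.1 hsS
  have hrel : B.relIndex S = 2 := by
    refine Subgroup.index_eq_two_iff.2 ⟨⟨s, hsS⟩, fun b => ?_⟩
    by_cases hb : (b : G) ∈ B
    · refine Or.inr ⟨Subgroup.mem_subgroupOf.2 hb, fun h => hsB ?_⟩
      have := Subgroup.mem_subgroupOf.1 h
      exact (Subgroup.mul_mem_cancel_left B hb).1 this
    · exact Or.inl ⟨Subgroup.mem_subgroupOf.2 (htwo b b.2 s hsS hb hsB),
        fun h => hb (Subgroup.mem_subgroupOf.1 h)⟩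
  obtain ⟨P, hP⟩ := hS.eq_sylow
  have hodd : ¬ 2 ∣ (S.subgroupOf A).index := hP ▸ P.not_dvd_index
  have hidx : (B.subgroupOf A).index = 2 * (S.subgroupOf A).index := by
    rw [← Subgroup.relIndex_mul_index (Subgroup.subgroupOf_mono A hBS : B.subgroupOf A ≤ S.subgroupOf A),
      Subgroup.relIndex_subgroupOf hS.1, hrel]
  obtain ⟨K, hK⟩ := CfsgLib.Involutions.exists_index_two_of_involution_not_conj
    (x := (⟨s, hsA⟩ : A)) (M := B.subgroupOf A)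
    (orderOf_eq_prime (Subtype.ext (by simpa [pow_two] using hs))
      (fun h => hsB (by have := congrArg Subtype.val h; simp at this; rw [this]; exact one_mem B)))
    (by rw [hidx]; omega) (fun g hg => hno g g.2 (by simpa [Subgroup.mem_subgroupOf] using hg))
  have hle : ⁅A, A⁆ ≤ K.map A.subtype := by
    rw [Subgroup.commutator_le]
    intro a ha b hb
    refine ⟨⁅(⟨a, ha⟩ : A), ⟨b, hb⟩⁆, ?_, rfl⟩
    show (⟨a, ha⟩ : A) * ⟨b, hb⟩ * (⟨a, ha⟩ : A)⁻¹ * (⟨b, hb⟩ : A)⁻¹ ∈ K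
    rw [Subgroup.mul_mem_iff_of_index_two hK,
      Subgroup.mul_mem_iff_of_index_two hK, Subgroup.mul_mem_iff_of_index_two hK, inv_mem_iff,
      inv_mem_iff]
    tauto
  rw [hperf] at hle
  have htop : K = ⊤ := by
    refine (Subgroup.eq_top_iff' K).2 fun a => ?_
    obtain ⟨k, hk, he⟩ := hle a.2
    rwa [← Subtype.ext (show (k : G) = a from he)]
  rw [htop, Subgroup.index_top] at hK
  omega

theorem false_of_inner [Finite G] {A S B : Subgroup G} (hperf : ⁅A, A⁆ = A)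
    (hS : IsMax S A) (hBS : B ≤ S) {s : G} (hsS : s ∈ S) (hsB : s ∉ B) (hs : s * s = 1)
    (htwo : ∀ σ ∈ S, ∀ τ ∈ S, σ ∉ B → τ ∉ B → σ * τ ∈ B)
    {z : G} (hzB : z ∈ B) (hz1 : z ≠ 1) (hz2 : z * z = 1)
    (huniq : ∀ y ∈ B, y * y = 1 → y = 1 ∨ y = z) (hSz : ∀ σ ∈ S, σ * z = z * σ)
    {u : G} (hu : u * u = 1) (hAu : ∀ a ∈ A, u * a * u⁻¹ ∈ A) (hSu : ∀ a ∈ S, u * a * u⁻¹ ∈ S)
    (hBu : ∀ a ∈ B, u * a * u⁻¹ ∈ B) (huz : u * z = z * u)
    {x : G} (hx : x ∈ S) (hxx : x * x = z) (hux : u * x = x * u)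
    (hxs : x * s * x⁻¹ = u * s * u⁻¹) : False := by
  obtain ⟨g, hg, hgs⟩ := exists_conj_of_perfect hperf hS hBS hsS hsB hs htwo
  have hgz : g * s * g⁻¹ = z := by
    refine (huniq _ hgs ?_).resolve_left fun h => hsB ?_
    · calc g * s * g⁻¹ * (g * s * g⁻¹) = g * (s * s) * g⁻¹ := by group
        _ = 1 := by rw [hs]; group
    · rw [conj_eq_one_iff.1 h]; exact one_mem B
  set H := adjoin A u hu hAu with hHdef
  set P := adjoin S u hu hSu with hPdef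
  have hui : u⁻¹ = u := inv_eq_of_mul_eq_one_right hu
  have hsq : ∀ p ∈ P, p * p ∈ B := by
    intro p hp
    have hcase : ∀ σ ∈ S, ∀ τ ∈ S, (σ ∈ B ↔ τ ∈ B) → σ * τ ∈ B := fun σ hσ τ hτ h => by
      by_cases hσB : σ ∈ B
      · exact mul_mem hσB (h.1 hσB)
      · exact htwo σ hσ τ hτ hσB (fun h' => hσB (h.2 h'))
    rcases hp with hp | hp
    · exact hcase p hp p hp Iff.rfl
    · have : p * p = (p * u) * (u * (p * u) * u⁻¹) := by
        rw [hui]; simp only [mul_assoc]; rw [hu, ← mul_assoc u u, hu, one_mul, mul_one]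
      rw [this]
      refine hcase _ hp _ (hSu _ hp) ⟨hBu _, fun h => ?_⟩
      have := hBu _ h
      have e : u * (u * (p * u) * u⁻¹) * u⁻¹ = p * u := by
        rw [hui]; simp only [mul_assoc]; rw [hu, mul_one, ← mul_assoc u u, hu, one_mul]
      rwa [e] at this
  have hPz : ∀ p ∈ P, p * z = z * p := by
    intro p hp
    rcases hp with hp | hp
    · exact hSz p hp
    · have h1 := hSz _ hp
      calc p * z = (p * u) * (u⁻¹ * z) := by group
        _ = (p * u) * (z * u) := by rw [hui, huz]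
        _ = z * p * (u * u) := by rw [← mul_assoc (p * u), h1]; group
        _ = z * p := by rw [hu, mul_one]
  have hPH : P ≤ H := fun p hp => hp.imp (hS.1 ·) (hS.1 ·)
  have huP : u ∈ P := Or.inr (by rw [hu]; exact one_mem S)
  have hgH : g ∈ H := Or.inl hg
  have hmax : ∀ T : Subgroup G, P ≤ T → T ≤ H → IsPGroup 2 T → T ≤ P := by
    intro T hPT hTH hT2
    have hTA : T ⊓ A ≤ S := hS.2.2 (T ⊓ A)
      (le_inf (fun σ hσ => hPT (Or.inl hσ)) hS.1) inf_le_right (hT2.to_le inf_le_left)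
    intro t ht
    rcases hTH ht with h | h
    · exact Or.inl (hTA ⟨ht, h⟩)
    · exact Or.inr (hTA ⟨mul_mem ht (hPT huP), h⟩)
  set K := H ⊓ Subgroup.centralizer {s} with hKdef
  set Q := P.map (MulAut.conj g⁻¹).toMonoidHom with hQdef
  have hQ : IsMax Q K := by
    refine ⟨?_, (isPGroup_adjoin hS.2.1).map _, fun T hQT hTK hT2 => ?_⟩
    · rintro _ ⟨p, hp, rfl⟩
      refine ⟨H.mul_mem (H.mul_mem (H.inv_mem hgH) (hPH hp)) (H.inv_mem (H.inv_mem hgH)),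
        Subgroup.mem_centralizer_iff.2 fun y hy => ?_⟩
      rw [Set.mem_singleton_iff.1 hy]
      show s * (g⁻¹ * p * g⁻¹⁻¹) = g⁻¹ * p * g⁻¹⁻¹ * s
      calc s * (g⁻¹ * p * g⁻¹⁻¹) = g⁻¹ * ((g * s * g⁻¹) * p) * g := by group
        _ = g⁻¹ * (p * (g * s * g⁻¹)) * g := by rw [hgz, hPz p hp]
        _ = _ := by group
    · have h1 : P ≤ T.map (MulAut.conj g).toMonoidHom := fun p hp =>
        ⟨g⁻¹ * p * g⁻¹⁻¹, hQT ⟨p, hp, rfl⟩, by simp [mul_assoc]⟩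
      have h2 : T.map (MulAut.conj g).toMonoidHom ≤ H := by
        rintro _ ⟨t, ht, rfl⟩
        exact mul_mem (mul_mem hgH (hTK ht).1) (inv_mem hgH)
      intro t ht
      exact ⟨g * t * g⁻¹, hmax _ h1 h2 (hT2.map _) ⟨t, ht, rfl⟩, by simp [mul_assoc]⟩
  set w := u * x⁻¹ with hwdef
  have hwP : w ∈ P := mul_mem huP (Or.inl (inv_mem hx))
  have hw2 : w * w = z := by
    have hxi : u * x⁻¹ = x⁻¹ * u := (Commute.inv_right hux).eq
    calc w * w = u * (x⁻¹ * u) * x⁻¹ := by rw [hwdef]; group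
      _ = (u * u) * (x * x)⁻¹ := by rw [← hxi]; group
      _ = z := by rw [hu, hxx, one_mul, inv_eq_of_mul_eq_one_right hz2]
  have hws : s * w = w * s := by
    have h1 : x * s * x⁻¹ = u * s * u⁻¹ := hxs
    have hxi : u * x⁻¹ = x⁻¹ * u := (Commute.inv_right hux).eq
    calc s * w = x⁻¹ * (x * s * x⁻¹) * (x * (u * x⁻¹)) := by rw [hwdef]; group
      _ = x⁻¹ * (u * s * u⁻¹) * (x * (x⁻¹ * u)) := by rw [h1, hxi]
      _ = (x⁻¹ * u) * s := by group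
      _ = w * s := by rw [← hxi]
  have hWK : Subgroup.zpowers w ≤ K := Subgroup.zpowers_le.2 ⟨hPH hwP,
    Subgroup.mem_centralizer_iff.2 fun y hy => by rw [Set.mem_singleton_iff.1 hy]; exact hws⟩
  obtain ⟨k, hk, hkw⟩ := hQ.exists_conj hWK
    ((isPGroup_adjoin (hu := hu) (hN := hSu) hS.2.1).to_le (Subgroup.zpowers_le.2 hwP))
  obtain ⟨p, hp, hpw⟩ := hkw w (Subgroup.mem_zpowers w)
  change g⁻¹ * p * g⁻¹⁻¹ = k * w * k⁻¹ at hpw
  have hks : s * k = k * s := Subgroup.mem_centralizer_iff.1 hk.2 s rfl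
  have h1 : p = (g * k) * w * (g * k)⁻¹ := by
    calc p = g * (g⁻¹ * p * g⁻¹⁻¹) * g⁻¹ := by group
      _ = _ := by rw [hpw]; group
  have h2 : p * p = (g * k) * z * (g * k)⁻¹ := by rw [h1, ← hw2]; group
  rcases huniq _ (hsq p hp) (by
      rw [h2]
      calc (g * k) * z * (g * k)⁻¹ * ((g * k) * z * (g * k)⁻¹)
          = (g * k) * (z * z) * (g * k)⁻¹ := by group
        _ = 1 := by rw [hz2]; group) with h | h
  · exact hz1 (conj_eq_one_iff.1 (h2.symm.trans h))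
  · have h3 : (g * k) * s * (g * k)⁻¹ = z := by
      calc (g * k) * s * (g * k)⁻¹ = g * (k * s) * k⁻¹ * g⁻¹ := by group
        _ = g * (s * k) * k⁻¹ * g⁻¹ := by rw [hks]
        _ = z := by rw [← hgz]; group
    have h4 : z = s := mul_left_cancel (mul_right_cancel ((h2.symm.trans h).trans h3.symm))
    exact hsB (h4 ▸ hzB)

theorem four_data {U : Subgroup G} (hU : IsKleinFour U) :
    (∀ u ∈ U, u * u = 1) ∧ (∀ u ∈ U, ∀ v ∈ U, u * v = v * u) ∧
      ∃ a ∈ U, ∃ b ∈ U, a ≠ 1 ∧ b ≠ 1 ∧ a * b ≠ 1 ∧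
        ∀ u ∈ U, u = 1 ∨ u = a ∨ u = b ∨ u = a * b := by
  have hsq : ∀ u ∈ U, u * u = 1 := fun u hu =>
    congrArg Subtype.val (IsKleinFour.mul_self (⟨u, hu⟩ : U))
  have hcomm : ∀ u ∈ U, ∀ v ∈ U, u * v = v * u := fun u hu v hv =>
    congrArg Subtype.val (mul_comm_of_exponent_two hU.exponent_two (⟨u, hu⟩ : U) ⟨v, hv⟩)
  refine ⟨hsq, hcomm, ?_⟩
  haveI : Finite U := Nat.finite_of_card_ne_zero (by simp [hU.card_four])
  haveI : Nontrivial U := Finite.one_lt_card_iff_nontrivial.1 (by rw [hU.card_four]; norm_num)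
  obtain ⟨a, ha⟩ := exists_ne (1 : U)
  obtain ⟨b, hb⟩ : ∃ b : U, b ∉ ({1, a} : Set U) := by
    by_contra! h
    have h1 : Nat.card U ≤ ({1, a} : Set U).ncard := by
      rw [← Set.ncard_univ]; exact Set.ncard_le_ncard (fun x _ => h x)
    rw [hU.card_four, Set.ncard_pair ha.symm] at h1
    omega
  simp only [Set.mem_insert_iff, Set.mem_singleton_iff, not_or] at hb
  refine ⟨a, a.2, b, b.2, fun h => ha (Subtype.ext h), fun h => hb.1 (Subtype.ext h), fun h => ?_,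
    fun u hu => ?_⟩
  · refine hb.2 (Subtype.ext ?_)
    rw [← inv_eq_of_mul_eq_one_right h, inv_eq_of_mul_eq_one_right (hsq a a.2)]
  · by_cases h1 : u = 1
    · exact Or.inl h1
    by_cases h2 : u = a
    · exact Or.inr (Or.inl h2)
    by_cases h3 : u = b
    · exact Or.inr (Or.inr (Or.inl h3))
    exact Or.inr (Or.inr (Or.inr (congrArg Subtype.val (IsKleinFour.eq_mul_of_ne_all
      (x := a) (y := b) (z := ⟨u, hu⟩) ha hb.1 (Ne.symm hb.2)
      (fun h => h1 (congrArg Subtype.val h)) (fun h => h2 (congrArg Subtype.val h))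
      (fun h => h3 (congrArg Subtype.val h))))))

theorem good_of_pair {A U : Subgroup G} {u e f : G} (hu : u ∈ U) (hu1 : u ≠ 1) (he : e ∈ A)
    (hf : f ∈ A) (he2 : e * e = 1) (hf2 : f * f = 1) (he1 : e ≠ 1) (hf1 : f ≠ 1) (hne : e ≠ f)
    (hc : e * f = f * e) (hue : u * e * u⁻¹ = e) (huf : u * f * u⁻¹ = f) : Good A U :=
  ⟨u, hu, hu1, e, f, he, hf, he2, hf2, he1, hf1, hne, hc, mul_inv_eq_iff_eq_mul.1 hue,
    mul_inv_eq_iff_eq_mul.1 huf⟩

theorem conj_conj (a b x : G) : (a * b) * x * (a * b)⁻¹ = a * (b * x * b⁻¹) * a⁻¹ := by group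

theorem good_of_flip {A U : Subgroup G} (hU : IsKleinFour U) {z e : G} (hzA : z ∈ A) (heA : e ∈ A)
    (hz2 : z * z = 1) (he2 : e * e = 1) (hz1 : z ≠ 1) (he1 : e ≠ 1) (hne : z ≠ e)
    (hc : z * e = e * z) (hzU : ∀ u ∈ U, u * z * u⁻¹ = z)
    (hflip : ∀ u ∈ U, u * e * u⁻¹ = e ∨ u * e * u⁻¹ = z * e) : Good A U := by
  obtain ⟨-, -, a, ha, b, hb, ha1, hb1, hab, -⟩ := four_data hU
  have key : ∀ u ∈ U, u ≠ 1 → u * e * u⁻¹ = e → Good A U := fun u hu hu1 h =>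
    good_of_pair hu hu1 hzA heA hz2 he2 hz1 he1 hne hc (hzU u hu) h
  rcases hflip a ha with h1 | h1
  · exact key a ha ha1 h1
  rcases hflip b hb with h2 | h2
  · exact key b hb hb1 h2
  refine key (a * b) (mul_mem ha hb) hab ?_
  rw [conj_conj, h2]
  calc a * (z * e) * a⁻¹ = (a * z * a⁻¹) * (a * e * a⁻¹) := by group
    _ = z * (z * e) := by rw [hzU a ha, h1]
    _ = e := by rw [← mul_assoc, hz2, one_mul]

theorem good_of_elem {A U B : Subgroup G} (hU : IsKleinFour U) (hBA : B ≤ A)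
    (hBc : ∀ x ∈ B, ∀ y ∈ B, x * y = y * x) (hBU : ∀ u ∈ U, ∀ x ∈ B, u * x * u⁻¹ ∈ B)
    {e f : G} (he : e ∈ B) (hf : f ∈ B) (he2 : e * e = 1) (hf2 : f * f = 1) (he1 : e ≠ 1)
    (hf1 : f ≠ 1) (hne : e ≠ f) : Good A U := by
  obtain ⟨hsq, hUc, a, ha, b, hb, ha1, hb1, hab, hcases⟩ := four_data hU
  have hmul : ∀ x ∈ B, ∀ y ∈ B, x * x = 1 → y * y = 1 → x * y * (x * y) = 1 := by
    intro x hx y hy hx2 hy2
    calc x * y * (x * y) = x * (y * x) * y := by group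
      _ = (x * x) * (y * y) := by rw [← hBc x hx y hy]; group
      _ = 1 := by rw [hx2, hy2, one_mul]
  have hcj : ∀ u : G, ∀ x : G, x * x = 1 → u * x * u⁻¹ * (u * x * u⁻¹) = 1 := fun u x hx2 => by
    calc u * x * u⁻¹ * (u * x * u⁻¹) = u * (x * x) * u⁻¹ := by group
      _ = 1 := by rw [hx2]; group
  have htw : ∀ v ∈ U, ∀ x : G, v * (v * x * v⁻¹) * v⁻¹ = x := fun v hv x => by
    rw [← conj_conj, hsq v hv]; group
  have step : ∀ v ∈ U, ∀ x ∈ B, x * x = 1 → x ≠ 1 → ∃ y ∈ B, y * y = 1 ∧ y ≠ 1 ∧ v * y * v⁻¹ = y ∧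
      ∀ w ∈ U, w * x * w⁻¹ = x → w * y * w⁻¹ = y := by
    intro v hv x hx hx2 hx1
    by_cases hfix : v * x * v⁻¹ = x
    · exact ⟨x, hx, hx2, hx1, hfix, fun w _ h => h⟩
    have hx' := hBU v hv x hx
    refine ⟨x * (v * x * v⁻¹), mul_mem hx hx', hmul x hx _ hx' hx2 (hcj v x hx2), fun h => hfix ?_,
      ?_, fun w hw h => ?_⟩
    · rw [← inv_eq_of_mul_eq_one_right h, inv_eq_of_mul_eq_one_right hx2]
    · calc v * (x * (v * x * v⁻¹)) * v⁻¹
          = (v * x * v⁻¹) * (v * (v * x * v⁻¹) * v⁻¹) := by group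
        _ = _ := by rw [htw v hv x, hBc _ hx' x hx]
    · calc w * (x * (v * x * v⁻¹)) * w⁻¹
          = (w * x * w⁻¹) * ((w * v) * x * (w * v)⁻¹) := by group
        _ = x * (v * (w * x * w⁻¹) * v⁻¹) := by rw [h, hUc w hw v hv, conj_conj, h]
        _ = _ := by rw [h]
  obtain ⟨y, hy, hy2, hy1, hya, -⟩ := step a ha e he he2 he1
  obtain ⟨z, hz, hz2, hz1, hzb, hzw⟩ := step b hb y hy hy2 hy1
  have hza := hzw a ha hya
  have hzU : ∀ u ∈ U, u * z * u⁻¹ = z := by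
    intro u hu
    rcases hcases u hu with rfl | rfl | rfl | rfl
    · group
    · exact hza
    · exact hzb
    · rw [conj_conj, hzb, hza]
  obtain ⟨d, hd, hd2, hd1, hzd⟩ : ∃ d ∈ B, d * d = 1 ∧ d ≠ 1 ∧ z ≠ d := by
    by_cases h : z = e
    · exact ⟨f, hf, hf2, hf1, h ▸ hne⟩
    · exact ⟨e, he, he2, he1, h⟩
  by_cases hflip : ∀ u ∈ U, u * d * u⁻¹ = d ∨ u * d * u⁻¹ = z * d
  · exact good_of_flip hU (hBA hz) (hBA hd) hz2 hd2 hz1 hd1 hzd (hBc z hz d hd) hzU hflip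
  push Not at hflip
  obtain ⟨u, hu, hnd, hnz⟩ := hflip
  have hd' := hBU u hu d hd
  have hdd : d * (u * d * u⁻¹) * (d * (u * d * u⁻¹)) = 1 := hmul d hd _ hd' hd2 (hcj u d hd2)
  refine good_of_pair hu (fun h => hnd (by rw [h]; group)) (hBA hz) (hBA (mul_mem hd hd')) hz2 hdd
    hz1 (fun h => hnd ?_) (fun h => hnz ?_) (hBc z hz _ (mul_mem hd hd')) (hzU u hu) ?_
  · rw [← inv_eq_of_mul_eq_one_right h, inv_eq_of_mul_eq_one_right hd2]
  · calc u * d * u⁻¹ = (d * d) * (u * d * u⁻¹) := by rw [hd2, one_mul]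
      _ = d * (d * (u * d * u⁻¹)) := by group
      _ = z * d := by rw [← h, hBc z hz d hd]
  · calc u * (d * (u * d * u⁻¹)) * u⁻¹
        = (u * d * u⁻¹) * (u * (u * d * u⁻¹) * u⁻¹) := by group
      _ = _ := by rw [htw u hu d, hBc _ hd' d hd]

theorem four_cases {m : ℕ} {a : ℤ} (h : (4 : ℤ) * 2 ^ m ∣ a * a - 1) :
    (4 : ℤ) * 2 ^ m ∣ a - 1 ∨ (4 : ℤ) * 2 ^ m ∣ a + 1 ∨
      (∃ p : ℤ, (2 : ℤ) ^ m = 2 * p ∧ (4 : ℤ) * 2 ^ m ∣ a - 1 - 2 * 2 ^ m) ∨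
      (∃ p : ℤ, (2 : ℤ) ^ m = 2 * p ∧ (4 : ℤ) * 2 ^ m ∣ a + 1 - 2 * 2 ^ m) := by
  have h' := sq_sub_one_cases (m := m) (r := a) (by convert h using 1; ring)
  rw [pow_succ] at h'
  rcases h' with ⟨c, hc⟩ | ⟨c, hc⟩ <;> rcases Int.even_or_odd c with ⟨d, hd⟩ | ⟨d, hd⟩ <;> subst hd
  · exact Or.inl ⟨d, by linear_combination hc⟩
  · rcases m with _ | m
    · exact Or.inr (Or.inl ⟨d + 1, by linear_combination hc⟩)
    · exact Or.inr (Or.inr (Or.inl ⟨2 ^ m, pow_succ' 2 m, ⟨d, by linear_combination hc⟩⟩))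
  · exact Or.inr (Or.inl ⟨d, by linear_combination hc⟩)
  · rcases m with _ | m
    · exact Or.inl ⟨d, by linear_combination hc⟩
    · exact Or.inr (Or.inr (Or.inr ⟨2 ^ m, pow_succ' 2 m, ⟨d, by linear_combination hc⟩⟩))

theorem exists_self_centralizing [Finite G] {S P : Subgroup G} (hP : IsPGroup 2 P) (hSP : S ≤ P)
    (hSn : ∀ p ∈ P, ∀ s ∈ S, p * s * p⁻¹ ∈ S) :
    ∃ B : Subgroup G, B ≤ S ∧ (∀ x ∈ B, ∀ y ∈ B, x * y = y * x) ∧
      (∀ p ∈ P, ∀ x ∈ B, p * x * p⁻¹ ∈ B) ∧ ∀ σ ∈ S, (∀ x ∈ B, σ * x = x * σ) → σ ∈ B := by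
  haveI : Fact (Nat.Prime 2) := ⟨Nat.prime_two⟩
  obtain ⟨B, -, hB⟩ := Finite.exists_le_maximal (p := fun B : Subgroup G =>
      B ≤ S ∧ (∀ x ∈ B, ∀ y ∈ B, x * y = y * x) ∧ ∀ p ∈ P, ∀ x ∈ B, p * x * p⁻¹ ∈ B) (a := ⊥)
    ⟨bot_le, fun x hx y hy => by simp_all, fun p _ x hx => by simp_all⟩
  obtain ⟨hBS, hBc, hBn⟩ := hB.1
  refine ⟨B, hBS, hBc, hBn, fun σ hσ hσc => ?_⟩
  set C := S ⊓ Subgroup.centralizer (B : Set G) with hC
  have hσC : σ ∈ C := ⟨hσ, Subgroup.mem_centralizer_iff.2 fun x hx => (hσc x hx).symm⟩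
  by_contra hσB
  have hCn : ∀ p ∈ P, ∀ c ∈ C, p * c * p⁻¹ ∈ C := by
    intro p hp c hc
    refine ⟨hSn p hp c hc.1, Subgroup.mem_centralizer_iff.2 fun x hx => ?_⟩
    have h1 := Subgroup.mem_centralizer_iff.1 hc.2 _ (hBn p⁻¹ (inv_mem hp) x hx)
    calc x * (p * c * p⁻¹) = p * ((p⁻¹ * x * p⁻¹⁻¹) * c) * p⁻¹ := by group
      _ = p * (c * (p⁻¹ * x * p⁻¹⁻¹)) * p⁻¹ := by rw [h1]
      _ = _ := by group
  haveI : (B.subgroupOf P).Normal := ⟨fun x hx p => hBn p p.2 x hx⟩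
  haveI : (C.subgroupOf P).Normal := ⟨fun x hx p => hCn p p.2 x hx⟩
  let π := QuotientGroup.mk' (B.subgroupOf P)
  haveI : ((C.subgroupOf P).map π).Normal :=
    Subgroup.Normal.map inferInstance π (QuotientGroup.mk'_surjective _)
  have hne : (C.subgroupOf P).map π ≠ ⊥ := by
    rw [Ne, Subgroup.map_eq_bot_iff, QuotientGroup.ker_mk']
    exact fun h => hσB (h (show (⟨σ, hSP hσ⟩ : P) ∈ C.subgroupOf P from hσC))
  obtain ⟨-, ⟨c, hc, rfl⟩, hc1, hcZ⟩ := exists_mem_center_of_normal (hP.to_quotient _) hne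
  have hcB : (c : G) ∉ B := fun h => hc1 ((QuotientGroup.eq_one_iff c).2 h)
  have hmod : ∀ p ∈ P, (c : G)⁻¹ * (p * c * p⁻¹) ∈ B := by
    intro p hp
    have h1 := Subgroup.mem_center_iff.1 hcZ (π ⟨p, hp⟩)
    have h2 : π (c⁻¹ * ((⟨p, hp⟩ : P) * c * (⟨p, hp⟩ : P)⁻¹)) = 1 := by
      rw [map_mul, map_inv, map_mul, map_mul, map_inv, h1, mul_inv_cancel_right, inv_mul_cancel]
    exact Subgroup.mem_subgroupOf.1
      ((QuotientGroup.eq_one_iff (c⁻¹ * ((⟨p, hp⟩ : P) * c * (⟨p, hp⟩ : P)⁻¹))).1 h2)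
  have hle : B ≤ Subgroup.closure (insert (c : G) (B : Set G)) := fun x hx =>
    Subgroup.subset_closure (Set.mem_insert_of_mem _ hx)
  have hcm : (c : G) ∈ Subgroup.closure (insert (c : G) (B : Set G)) :=
    Subgroup.subset_closure (Set.mem_insert _ _)
  refine hcB (hB.2 (y := Subgroup.closure (insert (c : G) (B : Set G))) ⟨?_, ?_, ?_⟩ hle hcm)
  · rw [Subgroup.closure_le]
    exact Set.insert_subset hc.1 hBS
  · have hcomm : ∀ x ∈ insert (c : G) (B : Set G), ∀ y ∈ insert (c : G) (B : Set G),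
        x * y = y * x := by
      have hcc : ∀ y ∈ B, (c : G) * y = y * c := fun y hy =>
        (Subgroup.mem_centralizer_iff.1 hc.2 y hy).symm
      rintro x (rfl | hx) y (rfl | hy)
      exacts [rfl, hcc y hy, (hcc x hx).symm, hBc x hx y hy]
    intro x hx y hy
    have h1 : Subgroup.closure (insert (c : G) (B : Set G)) ≤
        Subgroup.centralizer (insert (c : G) (B : Set G)) := (Subgroup.closure_le _).2
      fun a ha => Subgroup.mem_centralizer_iff.2 fun b hb => hcomm b hb a ha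
    have h2 : insert (c : G) (B : Set G) ⊆
        Subgroup.centralizer (Subgroup.closure (insert (c : G) (B : Set G)) : Set G) :=
      fun a ha => Subgroup.mem_centralizer_iff.2 fun b hb =>
        (Subgroup.mem_centralizer_iff.1 (h1 hb) a ha).symm
    exact (Subgroup.mem_centralizer_iff.1 ((Subgroup.closure_le _).2 h2 hx) y hy).symm
  · intro p hp x hx
    have : (Subgroup.closure (insert (c : G) (B : Set G))).map (MulAut.conj p).toMonoidHom ≤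
        Subgroup.closure (insert (c : G) (B : Set G)) := by
      rw [MonoidHom.map_closure, Subgroup.closure_le]
      rintro _ ⟨a, rfl | ha, rfl⟩
      · show p * (c : G) * p⁻¹ ∈ _
        have := mul_mem hcm (hle (hmod p hp))
        rwa [mul_inv_cancel_left] at this
      · exact hle (hBn p hp a ha)
    exact this ⟨x, hx, rfl⟩

theorem good_of_perfect [Finite G] {A U : Subgroup G} (hperf : ⁅A, A⁆ = A) (hU : IsKleinFour U)
    (hUA : U ≤ Subgroup.normalizer (A : Set G)) {e f : G} (he : e ∈ A) (hf : f ∈ A)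
    (he2 : e * e = 1) (hf2 : f * f = 1) (he1 : e ≠ 1) (hf1 : f ≠ 1) (hne : e ≠ f)
    (hef : e * f = f * e) : Good A U := by
  haveI : Fact (Nat.Prime 2) := ⟨Nat.prime_two⟩
  obtain ⟨hUsq, hUc, a, ha, b, hb, ha1, hb1, hab, hcases⟩ := four_data hU
  have hU2 : IsPGroup 2 U := IsPGroup.of_card (n := 2) (by rw [hU.card_four]; norm_num)
  have hAU : A ⊔ U ≤ Subgroup.normalizer (A : Set G) := sup_le Subgroup.le_normalizer hUA
  have hHA : ∀ k ∈ A ⊔ U, ∀ x ∈ A, k * x * k⁻¹ ∈ A := fun k hk x hx =>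
    (Subgroup.mem_normalizer_iff.1 (hAU hk) x).1 hx
  obtain ⟨P, hUP, hP⟩ := exists_isMax (le_sup_right : U ≤ A ⊔ U) hU2
  set S := P ⊓ A with hSdef
  have hS : IsMax S A := hP.inf_normal le_sup_left hHA
  have hSn : ∀ p ∈ P, ∀ x ∈ S, p * x * p⁻¹ ∈ S := fun p hp x hx =>
    ⟨P.mul_mem (P.mul_mem hp hx.1) (P.inv_mem hp), hHA p (hP.1 hp) x hx.2⟩
  have hSU : ∀ u ∈ U, ∀ x ∈ S, u * x * u⁻¹ ∈ S := fun u hu => hSn u (hUP hu)
  obtain ⟨e', f', he', hf', he2', hf2', he1', hf1', hne', hef'⟩ : ∃ e' f' : G, e' ∈ S ∧ f' ∈ S ∧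
      e' * e' = 1 ∧ f' * f' = 1 ∧ e' ≠ 1 ∧ f' ≠ 1 ∧ e' ≠ f' ∧ e' * f' = f' * e' := by
    have h4 := CfsgLib.Minimal.SmallTwo.isFour_fourOf he2 hf2 hef he1 hf1 hne
    obtain ⟨k, -, hk⟩ := hS.exists_conj
      (CfsgLib.Minimal.SmallTwo.fourOf_le he2 hf2 hef he hf)
      (IsPGroup.of_card (n := 2) (by rw [h4.card]; norm_num))
    obtain ⟨h1, h2⟩ := CfsgLib.Minimal.SmallTwo.mem_fourOf he2 hf2 hef
    refine ⟨k * e * k⁻¹, k * f * k⁻¹, hk e h1, hk f h2, ?_, ?_, ?_, ?_, ?_, ?_⟩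
    · calc k * e * k⁻¹ * (k * e * k⁻¹) = k * (e * e) * k⁻¹ := by group
        _ = 1 := by rw [he2]; group
    · calc k * f * k⁻¹ * (k * f * k⁻¹) = k * (f * f) * k⁻¹ := by group
        _ = 1 := by rw [hf2]; group
    · exact fun h => he1 (conj_eq_one_iff.1 h)
    · exact fun h => hf1 (conj_eq_one_iff.1 h)
    · exact fun h => hne (mul_left_cancel (mul_right_cancel h))
    · calc k * e * k⁻¹ * (k * f * k⁻¹) = k * (e * f) * k⁻¹ := by group
        _ = k * (f * e) * k⁻¹ := by rw [hef]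
        _ = _ := by group
  obtain ⟨B, hBS, hBc, hBn, hBmax⟩ := exists_self_centralizing hP.2.1
    (inf_le_left : S ≤ P) hSn
  have hBA : B ≤ A := hBS.trans inf_le_right
  have hBU : ∀ u ∈ U, ∀ x ∈ B, u * x * u⁻¹ ∈ B := fun u hu => hBn u (hUP hu)
  by_cases hnc : ∃ x ∈ B, ∃ y ∈ B, x * x = 1 ∧ y * y = 1 ∧ x ≠ 1 ∧ y ≠ 1 ∧ x ≠ y
  · obtain ⟨x, hx, y, hy, hx2, hy2, hx1, hy1, hxy⟩ := hnc
    exact good_of_elem hU hBA hBc hBU hx hy hx2 hy2 hx1 hy1 hxy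
  push Not at hnc
  letI : CommGroup B :=
    { (inferInstance : Group B) with mul_comm := fun x y => Subtype.ext (hBc x x.2 y y.2) }
  have hcyc : IsCyclic B := isCyclic_of_uniqueOrderP_comm
    (hP.2.1.to_le (hBS.trans inf_le_left))
    (uniqueOrderP_iff_unique_involution.2 fun x y hx hy => Subtype.ext (hnc x x.2 y y.2
      (congrArg Subtype.val (CfsgLib.Involutions.mul_self_eq_one hx : x * x = 1))
      (congrArg Subtype.val (CfsgLib.Involutions.mul_self_eq_one hy : y * y = 1))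
      (fun h => by rw [show x = 1 from Subtype.ext h, orderOf_one] at hx; omega)
      (fun h => by rw [show y = 1 from Subtype.ext h, orderOf_one] at hy; omega)))
  obtain ⟨r, hr⟩ := (Subgroup.isCyclic_iff_exists_zpowers_eq_top B).1 hcyc
  have hrB : r ∈ B := hr ▸ Subgroup.mem_zpowers r
  have hmemB : ∀ x, x ∈ B ↔ ∃ i : ℤ, r ^ i = x := fun x => by
    rw [← hr, Subgroup.mem_zpowers_iff]
  have hrc : ∀ σ : G, σ * r * σ⁻¹ = r → ∀ x ∈ B, σ * x = x * σ := by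
    intro σ hσ x hx
    obtain ⟨i, rfl⟩ := (hmemB x).1 hx
    exact ((show Commute σ r from mul_inv_eq_iff_eq_mul.1 hσ).zpow_right i).eq
  obtain ⟨n, hn⟩ := IsPGroup.iff_orderOf.1 (hP.2.1.to_le (hBS.trans inf_le_left)) ⟨r, hrB⟩
  rw [Subgroup.orderOf_mk] at hn
  obtain ⟨m, rfl⟩ : ∃ m, n = m + 2 := by
    refine ⟨n - 2, ?_⟩
    by_contra hlt
    have hr2 : r * r = 1 := by
      rw [← pow_two, ← orderOf_dvd_iff_pow_eq_one, hn]
      exact (pow_dvd_pow 2 (by omega : n ≤ 1)).trans (by norm_num)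
    have hcent : ∀ p ∈ P, p * r * p⁻¹ = r := by
      intro p hp
      have h1 : p * r * p⁻¹ * (p * r * p⁻¹) = 1 := by
        calc p * r * p⁻¹ * (p * r * p⁻¹) = p * (r * r) * p⁻¹ := by group
          _ = 1 := by rw [hr2]; group
      by_cases hr1 : r = 1
      · rw [hr1]; group
      · exact (hnc _ hrB _ (hBn p hp r hrB) hr2 h1 hr1 (fun h => hr1 (conj_eq_one_iff.1 h))).symm
    have hall : ∀ σ ∈ S, σ ∈ B := fun σ hσ => hBmax σ hσ (hrc σ (hcent σ hσ.1))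
    exact hne' (hnc _ (hall _ he') _ (hall _ hf') he2' hf2' he1' hf1')
  set q : ℤ := 2 ^ m with hq
  have hN : ∀ i j : ℤ, r ^ i = r ^ j ↔ 4 * q ∣ j - i := fun i j => by
    have e : ((2 ^ (m + 2) : ℕ) : ℤ) = 4 * q := by rw [hq]; push_cast; ring
    rw [zpow_eq_zpow_iff_dvd hn, e]
  have hq0 : q ≠ 0 := by positivity
  set z := r ^ (2 * q) with hzdef
  have hzB : z ∈ B := (hmemB z).2 ⟨_, rfl⟩
  have hz2 : z * z = 1 := by
    rw [hzdef, ← zpow_add, ← zpow_zero r, hN]; exact ⟨-1, by ring⟩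
  have hz1 : z ≠ 1 := by
    rw [hzdef, ← zpow_zero r, Ne, hN]
    rintro ⟨c, hc⟩
    have : q * (2 * (1 + 2 * c)) = q * 0 := by linear_combination -hc
    have := mul_left_cancel₀ hq0 this
    omega
  have huniq : ∀ y ∈ B, y * y = 1 → y = 1 ∨ y = z := fun y hy hy2 =>
    or_iff_not_imp_left.2 fun hy1 => hnc y hy z hzB hy2 hz2 hy1 hz1
  have hexp : ∀ p ∈ P, ∃ c : ℤ, p * r * p⁻¹ = r ^ c := fun p hp => by
    obtain ⟨c, hc⟩ := (hmemB _).1 (hBn p hp r hrB); exact ⟨c, hc.symm⟩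
  have hPz : ∀ p ∈ P, p * z * p⁻¹ = z := fun p hp =>
    (hnc z hzB _ (hBn p hp z hzB) hz2 (by
      calc p * z * p⁻¹ * (p * z * p⁻¹) = p * (z * z) * p⁻¹ := by group
        _ = 1 := by rw [hz2]; group) hz1 (fun h => hz1 (conj_eq_one_iff.1 h))).symm
  have hodd : ∀ p ∈ P, ∀ c : ℤ, p * r * p⁻¹ = r ^ c → ∃ d, c = 2 * d + 1 := by
    intro p hp c hc
    refine (Int.even_or_odd c).resolve_left ?_
    rintro ⟨d, rfl⟩
    have h1 := hPz p hp
    rw [hzdef, conj_zpow_eq hc, hN] at h1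
    obtain ⟨i, hi⟩ := h1
    have : q * (2 * (1 - 2 * d - 2 * i)) = q * 0 := by linear_combination hi
    have := mul_left_cancel₀ hq0 this
    omega
  have hcent : ∀ σ ∈ S, ∀ c : ℤ, σ * r * σ⁻¹ = r ^ c → 4 * q ∣ c - 1 → σ ∈ B := by
    intro σ hσ c hc hdvd
    refine hBmax σ hσ (hrc σ ?_)
    have h1 : r ^ (1 : ℤ) = r ^ c := (hN 1 c).2 hdvd
    rw [hc, ← h1, zpow_one]
  have hexpB : ∀ σ ∈ B, ∀ c : ℤ, σ * r * σ⁻¹ = r ^ c → 4 * q ∣ c - 1 := by
    intro σ hσ c hc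
    rw [mul_inv_eq_iff_eq_mul.2 (hBc σ hσ r hrB)] at hc
    exact (hN 1 c).1 (by rw [zpow_one]; exact hc)
  have hcomp : ∀ {g h : G} {c d : ℤ}, g * r * g⁻¹ = r ^ c → h * r * h⁻¹ = r ^ d →
      (g * h) * r * (g * h)⁻¹ = r ^ (c * d) := fun {g h c d} hg hh => by
    rw [conj_conj, hh, conj_zpow_eq hg]
  have hUinv : ∀ u ∈ U, ∀ c : ℤ, u * r * u⁻¹ = r ^ c → 4 * q ∣ c * c - 1 := by
    intro u hu c hc
    have h1 := hcomp hc hc
    rw [hUsq u hu, inv_one, one_mul, mul_one] at h1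
    exact (hN 1 (c * c)).1 (by rw [zpow_one]; exact h1)
  have hSexp : ∀ σ ∈ S, σ * σ ∈ B → ∀ c : ℤ, σ * r * σ⁻¹ = r ^ c → 4 * q ∣ c * c - 1 :=
    fun σ _ h2 c hc => hexpB _ h2 _ (hcomp hc hc)
  -- the modular case
  by_cases hmod : ∃ σ ∈ S, σ ∉ B ∧ σ * σ ∈ B ∧ ∃ p c : ℤ, q = 2 * p ∧ σ * r * σ⁻¹ = r ^ c ∧
      4 * q ∣ c - 1 - 2 * q
  · obtain ⟨σ, hσ, hσB, hσ2, p, c, hqp, hc, ⟨d, hd⟩⟩ := hmod
    obtain ⟨e0, he0⟩ := (hmemB _).1 hσ2
    have h1 : σ * r ^ e0 * σ⁻¹ = r ^ e0 := by rw [he0]; group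
    rw [conj_zpow_eq hc, hN] at h1
    obtain ⟨i, hi⟩ := h1
    have h2 : q * (2 * e0 * (1 + 2 * d) + 4 * i) = q * 0 := by linear_combination -hi - e0 * hd
    have h3 := mul_left_cancel₀ hq0 h2
    obtain ⟨e1, rfl⟩ : (2 : ℤ) ∣ e0 := by
      refine (Int.prime_two.dvd_mul.1 ⟨-i, ?_⟩ : (2 : ℤ) ∣ e0 ∨ (2 : ℤ) ∣ 1 + 2 * d).resolve_right
        (by omega)
      linarith
    set k := -e1 * (1 - q) with hk
    set y := r ^ k * σ with hy
    have hyy : ∀ j : ℤ, (r ^ j * y) * (r ^ j * y) = r ^ (j + k + c * (j + k) + 2 * e1) := fun j => by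
      rw [show r ^ j * y = r ^ (j + k) * σ by rw [hy, ← mul_assoc, ← zpow_add],
        zpow_mul_mul_zpow_mul hc, pow_two, ← he0, ← zpow_add]
    have hk0 : 4 * q ∣ k + c * k + 2 * e1 :=
      ⟨e1 * p - d * e1 * (1 - q), by rw [hk]; linear_combination (-e1 * (1 - q)) * hd + (2 * e1 * q) * hqp⟩
    have hy2 : y * y = 1 := by
      have h := hyy 0
      simp only [zpow_zero, one_mul, zero_add] at h
      rw [h, ← zpow_zero r, hN, zero_sub, dvd_neg]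
      exact hk0
    have hyB : y ∉ B := fun h => hσB ((Subgroup.mul_mem_cancel_left B ((hmemB _).2 ⟨k, rfl⟩)).1 h)
    have hyS : y ∈ S := mul_mem (hBS ((hmemB _).2 ⟨k, rfl⟩)) hσ
    have hyc : y * r * y⁻¹ = r ^ c := by rw [hy, conj_conj, hc]; group
    refine good_of_flip hU (hBA hzB) hyS.2 hz2 hy2 hz1 (fun h => hyB (h ▸ one_mem B))
      (fun h => hyB (h ▸ hzB)) (mul_inv_eq_iff_eq_mul.1 (hPz y hyS.1)).symm
      (fun u hu => hPz u (hUP hu)) fun u hu => ?_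
    obtain ⟨cu, hcu⟩ := hexp u (hUP hu)
    set y' := u * y * u⁻¹ with hy'
    have hy'S : y' ∈ S := hSU u hu y hyS
    obtain ⟨c', hc'⟩ := hexp y' hy'S.1
    have h4 : r ^ (c' * cu) = r ^ (cu * c) := by
      rw [← conj_zpow_eq hc' cu, ← conj_zpow_eq hcu c, ← hyc, ← hcu, hy']; group
    obtain ⟨i', hi'⟩ := (hN _ _).1 h4
    obtain ⟨l, hl⟩ := hUinv u hu cu hcu
    have hcc : 4 * q ∣ c' * c - 1 :=
      ⟨c * (l * (c - c') - cu * i') + (1 + 2 * d) * (1 + q * (1 + 2 * d)), by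
        linear_combination (c * (c - c')) * hl - (c * cu) * hi' + (c + 1 + 2 * q * (1 + 2 * d)) * hd⟩
    have h5 : y' * y ∈ B := hcent _ (mul_mem hy'S hyS) _ (hcomp hc' hyc) hcc
    obtain ⟨j, hj⟩ := (hmemB _).1 h5
    have h6 : r ^ j * y = y' := by rw [hj, mul_assoc, hy2, mul_one]
    have h7 : y' * y' = 1 := by
      rw [hy']
      calc u * y * u⁻¹ * (u * y * u⁻¹) = u * (y * y) * u⁻¹ := by group
        _ = 1 := by rw [hy2]; group
    rw [← h6, hyy j, ← zpow_zero r, hN] at h7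
    obtain ⟨i1, hi1⟩ := h7
    obtain ⟨i0, hi0⟩ := hk0
    have h8 : (2 * q : ℤ) ∣ j * (1 + q + 2 * q * d) := by
      refine ⟨-i1 - i0, mul_left_cancel₀ (two_ne_zero (α := ℤ)) ?_⟩
      linear_combination -hi1 - hi0 - j * hd
    have hcop : IsCoprime (2 * q : ℤ) (1 + q + 2 * q * d) := by
      have h9 : IsCoprime (2 : ℤ) (1 + q + 2 * q * d) :=
        ⟨-(p + q * d), 1, by linear_combination hqp⟩
      have e : (2 * q : ℤ) = 2 ^ (m + 1) := by rw [hq, pow_succ']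
      have h10 := h9.pow_left (m := m + 1)
      rw [← e] at h10; exact h10
    obtain ⟨i2, hi2⟩ := hcop.dvd_of_dvd_mul_right h8
    rcases huniq _ ((hmemB _).2 ⟨j, rfl⟩) (by
        rw [← zpow_add, ← zpow_zero r, hN, hi2]; exact ⟨-i2, by ring⟩) with h | h
    · left; rw [← h6, h, one_mul]
    · right; rw [← h6, h]
  push Not at hmod
  have h4odd : ∀ c : ℤ, ¬ (4 : ℤ) ∣ (2 * c + 1) * (2 * c + 1) + 1 := by
    intro c ⟨i, hi⟩
    have : (4 : ℤ) * (c * c + c - i) + 2 = 0 := by linear_combination hi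
    omega
  have hsqB : ∀ σ ∈ S, σ * σ ∈ B := by
    intro σ hσ
    by_contra hσ2
    obtain ⟨k, hk⟩ := hP.2.1 ⟨σ, hσ.1⟩
    have hk' : σ ^ 2 ^ k = 1 := by simpa using congrArg Subtype.val hk
    obtain ⟨j, hj1, hj2⟩ := CfsgLib.Minimal.SmallTwo.exists_pow_boundary
      (P := fun j => (σ * σ) ^ 2 ^ j ∈ B) (n := k) (by simpa using hσ2)
      (by show (σ * σ) ^ 2 ^ k ∈ B; rw [← pow_two, ← pow_mul, mul_comm, pow_mul, hk', one_pow]
          exact one_mem B)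
    set ρ := σ ^ 2 ^ j with hρ
    have hρS : ρ ∈ S := pow_mem hσ _
    have e1 : (σ * σ) ^ 2 ^ j = ρ * ρ := by rw [hρ, (Commute.refl σ).mul_pow]
    have hτB : ρ * ρ ∉ B := e1 ▸ hj1
    have hτS : ρ * ρ ∈ S := mul_mem hρS hρS
    have hτ2 : ρ * ρ * (ρ * ρ) ∈ B := by
      rw [← e1]; rw [pow_succ, pow_mul, pow_two] at hj2; exact hj2
    obtain ⟨c, hc⟩ := hexp ρ hρS.1
    obtain ⟨d, rfl⟩ := hodd ρ hρS.1 c hc
    have hτc := hcomp hc hc
    rcases four_cases (m := m) (hSexp _ hτS hτ2 _ hτc) with h | h | ⟨p, hp, h⟩ | ⟨p, hp, h⟩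
    · exact hτB (hcent _ hτS _ hτc h)
    · exact h4odd d ((dvd_mul_right 4 q).trans h)
    · exact hmod _ hτS hτB hτ2 p _ hp hτc h
    · obtain ⟨i, hi⟩ := h
      exact h4odd d ⟨p + q * i, by rw [← hq] at hp; linear_combination hi + 2 * hp⟩
  have hclass : ∀ σ ∈ S, σ ∉ B → ∀ c : ℤ, σ * r * σ⁻¹ = r ^ c →
      4 * q ∣ c + 1 ∨ ∃ p : ℤ, q = 2 * p ∧ 4 * q ∣ c + 1 - 2 * q := by
    intro σ hσ hσB c hc
    rcases four_cases (m := m) (hSexp σ hσ (hsqB σ hσ) c hc) with h | h | ⟨p, hp, h⟩ | h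
    · exact absurd (hcent σ hσ c hc h) hσB
    · exact Or.inl h
    · exact absurd h (hmod σ hσ hσB (hsqB σ hσ) p c hp hc)
    · exact Or.inr h
  have htwo : ∀ σ ∈ S, ∀ τ ∈ S, σ ∉ B → τ ∉ B → σ * τ ∈ B := by
    intro σ hσ τ hτ hσB hτB
    obtain ⟨c, hc⟩ := hexp σ hσ.1
    obtain ⟨d, hd⟩ := hexp τ hτ.1
    have hστ := mul_mem hσ hτ
    have hcd := hcomp hc hd
    by_contra hB
    rcases hclass σ hσ hσB c hc with ⟨i, hi⟩ | ⟨p, hp, i, hi⟩ <;>
      rcases hclass τ hτ hτB d hd with ⟨j, hj⟩ | ⟨p', hp', j, hj⟩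
    · exact hB (hcent _ hστ _ hcd ⟨i * d - j, by linear_combination d * hi - hj⟩)
    · exact hmod _ hστ hB (hsqB _ hστ) p' _ hp' hcd ⟨i * d - j - 1, by linear_combination d * hi - hj⟩
    · exact hmod _ hστ hB (hsqB _ hστ) p _ hp hcd ⟨c * j - i - 1, by linear_combination c * hj - hi⟩
    · exact hB (hcent _ hστ _ hcd ⟨q * (1 + 2 * i) * (1 + 2 * j) - 1 - i - j, by
        linear_combination d * hi + (2 * q * (1 + 2 * i) - 1) * hj⟩)
  obtain ⟨s, hsS, hsB, hs2⟩ : ∃ s ∈ S, s ∉ B ∧ s * s = 1 := by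
    by_cases h : e' ∈ B
    · exact ⟨f', hf', fun h' => hne' (hnc _ h _ h' he2' hf2' he1' hf1'), hf2'⟩
    · exact ⟨e', he', h, he2'⟩
  obtain ⟨a0, ha0⟩ := hexp s hsS.1
  have hsinv : s⁻¹ = s := inv_eq_of_mul_eq_one_right hs2
  have hact : ∀ u ∈ U, ∃ cu bu : ℤ, u * r * u⁻¹ = r ^ cu ∧ u * s * u⁻¹ = r ^ bu * s := by
    intro u hu
    obtain ⟨c, hc⟩ := hexp u (hUP hu)
    have h1 : u * s * u⁻¹ ∉ B := fun h => hsB (by
      have := hBU u hu _ h
      rwa [← conj_conj, hUsq u hu, inv_one, one_mul, mul_one] at this)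
    obtain ⟨j, hj⟩ := (hmemB _).1 (htwo _ (hSU u hu s hsS) s hsS h1 hsB)
    exact ⟨c, j, hc, by rw [hj, mul_assoc (u * s * u⁻¹) s s, hs2, mul_one]⟩
  have hact_mul : ∀ {g h : G} {c d i j : ℤ}, g * r * g⁻¹ = r ^ c → g * s * g⁻¹ = r ^ i * s →
      h * r * h⁻¹ = r ^ d → h * s * h⁻¹ = r ^ j * s →
      (g * h) * s * (g * h)⁻¹ = r ^ (c * j + i) * s := fun {g h c d i j} hg hgs hh hhs => by
    rw [conj_conj, hhs, ← conj_mul, conj_zpow_eq hg, hgs, ← mul_assoc, ← zpow_add]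
  have hrs : ∀ i j : ℤ, r ^ i * s = r ^ j * s ↔ 4 * q ∣ j - i := fun i j => by
    rw [mul_left_inj, hN]
  have hrel : ∀ u ∈ U, ∀ c i : ℤ, u * r * u⁻¹ = r ^ c → u * s * u⁻¹ = r ^ i * s →
      4 * q ∣ c * i + i := by
    intro u hu c i hc hi
    have h1 := hact_mul hc hi hc hi
    rw [hUsq u hu, inv_one, one_mul, mul_one] at h1
    have := (hrs 0 (c * i + i)).1 (by rw [zpow_zero, one_mul]; exact h1)
    simpa using this
  have hsq2 : ∀ k : ℤ, (r ^ k * s) * (r ^ k * s) = r ^ (k + a0 * k) := fun k => by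
    rw [zpow_mul_mul_zpow_mul ha0, pow_two, hs2, mul_one]
  have hfix : ∀ u ∈ U, u ≠ 1 → ∀ c i k : ℤ, u * r * u⁻¹ = r ^ c → u * s * u⁻¹ = r ^ i * s →
      4 * q ∣ k + a0 * k → 4 * q ∣ (c - 1) * k + i → Good A U := by
    intro u hu hu1 c i k hc hi hk1 hk2
    have hkB : r ^ k * s ∉ B := fun h => hsB
      ((Subgroup.mul_mem_cancel_left B ((hmemB _).2 ⟨k, rfl⟩)).1 h)
    have hkS : r ^ k * s ∈ S := mul_mem (hBS ((hmemB _).2 ⟨k, rfl⟩)) hsS
    refine good_of_pair hu hu1 (hBA hzB) hkS.2 hz2 ?_ hz1 (fun h => hkB (h ▸ one_mem B))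
      (fun h => hkB (h ▸ hzB)) (mul_inv_eq_iff_eq_mul.1 (hPz _ hkS.1)).symm (hPz u (hUP hu)) ?_
    · rw [hsq2, ← zpow_zero r, hN, zero_sub, dvd_neg]; exact hk1
    · rw [← conj_mul, conj_zpow_eq hc, hi, ← mul_assoc, ← zpow_add]
      refine ((hrs k (c * k + i)).2 ?_).symm
      convert hk2 using 1; ring
  have hinner : ∀ u ∈ U, ∀ x ∈ S, x * x = z → u * x = x * u → x * s * x⁻¹ = u * s * u⁻¹ →
      Good A U := fun u hu x hx hxx hux hxs =>
    (false_of_inner hperf hS hBS hsS hsB hs2 htwo hzB hz1 hz2 huniq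
      (fun σ hσ => mul_inv_eq_iff_eq_mul.1 (hPz σ hσ.1)) (hUsq u hu)
      (fun x hx => hHA u (Subgroup.mem_sup_right hu) x hx) (hSU u hu) (hBU u hu)
      (mul_inv_eq_iff_eq_mul.1 (hPz u (hUP hu))) hx hxx hux hxs).elim
  obtain ⟨ca, ba, hca, hba⟩ := hact a ha
  obtain ⟨cb, bb, hcb, hbb⟩ := hact b hb
  have hcab := hcomp hca hcb
  have hbab := hact_mul hca hba hcb hbb
  -- the case `u` centralizes `r`
  have hone : ∀ u ∈ U, u ≠ 1 → ∀ c i : ℤ, u * r * u⁻¹ = r ^ c → u * s * u⁻¹ = r ^ i * s →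
      4 * q ∣ c - 1 → 4 * q ∣ q * (1 - a0) - 2 * q → Good A U := by
    intro u hu hu1 c i hc hi ⟨d, hd⟩ ⟨l0, hl0⟩
    obtain ⟨l, hl⟩ := hrel u hu c i hc hi
    have h1 : (2 : ℤ) * i = 2 * (2 * q * (l - d * i)) := by linear_combination hl - i * hd
    have h2 : i = 2 * q * (l - d * i) := mul_left_cancel₀ two_ne_zero h1
    rcases Int.even_or_odd (l - d * i) with ⟨j, hj⟩ | ⟨j, hj⟩ <;> rw [hj] at h2
    · exact hfix u hu hu1 c i 0 hc hi ⟨0, by ring⟩ ⟨j, by linear_combination h2⟩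
    · refine hinner u hu (r ^ q) (hBS ((hmemB _).2 ⟨q, rfl⟩)) ?_ ?_ ?_
      · rw [hzdef, ← zpow_add, hN]; exact ⟨0, by ring⟩
      · refine mul_inv_eq_iff_eq_mul.1 ?_
        rw [conj_zpow_eq hc, hN]
        exact ⟨-(d * q), by linear_combination -q * hd⟩
      · rw [hi]
        have e : r ^ q * s * (r ^ q)⁻¹ = r ^ q * (s * r ^ (-q) * s⁻¹) * s := by
          rw [zpow_neg]; group
        rw [e, conj_zpow_eq ha0, ← zpow_add, hrs]
        exact ⟨j - l0, by linear_combination h2 - hl0⟩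
  have hac : ∀ u ∈ U, ∀ c : ℤ, u * r * u⁻¹ = r ^ c → 4 * q ∣ c - 1 ∨ 4 * q ∣ c + 1 ∨
      (∃ p : ℤ, q = 2 * p ∧ 4 * q ∣ c - 1 - 2 * q) ∨
        (∃ p : ℤ, q = 2 * p ∧ 4 * q ∣ c + 1 - 2 * q) :=
    fun u hu c hc => four_cases (m := m) (hUinv u hu c hc)
  rcases hclass s hsS hsB a0 ha0 with ⟨d0, hd0⟩ | ⟨p, hp, d0, hd0⟩
  · -- dihedral
    have hk : ∀ k : ℤ, 4 * q ∣ k + a0 * k := fun k => ⟨d0 * k, by linear_combination k * hd0⟩
    have key : ∀ u ∈ U, u ≠ 1 → ∀ c i : ℤ, u * r * u⁻¹ = r ^ c → u * s * u⁻¹ = r ^ i * s →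
        (2 : ℤ) ∣ i → Good A U := by
      intro u hu hu1 c i hc hi hi2
      obtain ⟨b', rfl⟩ := hi2
      rcases hac u hu c hc with h | ⟨d, hd⟩ | ⟨p, hp, d, hd⟩ | ⟨p, hp, d, hd⟩
      · exact hone u hu hu1 _ _ hc hi h ⟨-(q * d0), by linear_combination -q * hd0⟩
      · exact hfix u hu hu1 _ _ b' hc hi (hk _) ⟨d * b', by linear_combination b' * hd⟩
      · obtain ⟨l, hl⟩ := hrel u hu _ _ hc hi
        have h1 : (4 : ℤ) * (b' * (1 + q + 2 * q * d)) = 4 * (q * l) := by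
          linear_combination hl - 2 * b' * hd
        have h2 : b' = q * (l - b' * (1 + 2 * d)) := by
          linear_combination mul_left_cancel₀ (by norm_num : (4 : ℤ) ≠ 0) h1
        exact hfix u hu hu1 _ _ (l - b' * (1 + 2 * d)) hc hi (hk _)
          ⟨(1 + d) * (l - b' * (1 + 2 * d)), by
            linear_combination (l - b' * (1 + 2 * d)) * hd + 2 * h2⟩
      · exact hfix u hu hu1 _ _ (b' * (1 + q)) hc hi (hk _)
          ⟨d * b' * (1 + q) + b' * p, by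
            linear_combination b' * (1 + q) * hd + (2 * q * b') * hp⟩
    by_cases h1 : (2 : ℤ) ∣ ba
    · exact key a ha ha1 _ _ hca hba h1
    by_cases h2 : (2 : ℤ) ∣ bb
    · exact key b hb hb1 _ _ hcb hbb h2
    refine key _ (mul_mem ha hb) hab _ _ hcab hbab ?_
    obtain ⟨d, rfl⟩ := hodd a (hUP ha) ca hca
    have : (2 * d + 1) * bb + ba = 2 * (d * bb) + (bb + ba) := by ring
    omega
  · -- quasi-dihedral
    have hk : ∀ k : ℤ, 4 * q ∣ 2 * k + a0 * (2 * k) :=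
      fun k => ⟨2 * d0 * k + k, by linear_combination 2 * k * hd0⟩
    have heven : ∀ u ∈ U, ∀ i : ℤ, u * s * u⁻¹ = r ^ i * s → (2 : ℤ) ∣ i := by
      intro u hu i hi
      have h1 : r ^ (i + a0 * i) = r ^ (0 : ℤ) := by
        rw [← hsq2 i, ← hi, zpow_zero]
        calc u * s * u⁻¹ * (u * s * u⁻¹) = u * (s * s) * u⁻¹ := by group
          _ = 1 := by rw [hs2]; group
      obtain ⟨l, hl⟩ := (hN _ _).1 h1
      have h2 : q * (2 * (i + 2 * (d0 * i + l))) = q * 0 := by linear_combination -hl - i * hd0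
      have := mul_left_cancel₀ hq0 h2
      omega
    have key : ∀ u ∈ U, u ≠ 1 → ∀ c i : ℤ, u * r * u⁻¹ = r ^ c → u * s * u⁻¹ = r ^ i * s →
        (4 * q ∣ c - 1 ∨ 4 * q ∣ c + 1 - 2 * q) → Good A U := by
      intro u hu hu1 c i hc hi hcc
      rcases hcc with h | ⟨d, hd⟩
      · exact hone u hu hu1 c i hc hi h
          ⟨-p - q * d0, by linear_combination -q * hd0 + (-2 * q) * hp⟩
      obtain ⟨b', rfl⟩ := heven u hu i hi
      rcases Int.even_or_odd b' with ⟨b'', hb''⟩ | ⟨b'', hb''⟩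
      · refine hfix u hu hu1 _ _ (2 * (b'' * (1 + q))) hc hi (hk _) ⟨d * b' * (1 + q) + b' * p, ?_⟩
        subst hb''
        linear_combination 2 * b'' * (1 + q) * hd + (4 * q * b'') * hp
      · set j := b' * (1 + q) with hj
        have hjB : r ^ j ∈ B := (hmemB _).2 ⟨j, rfl⟩
        refine hinner u hu (r ^ j * s) (mul_mem (hBS hjB) hsS) ?_ ?_ ?_
        · rw [hsq2, hzdef, hN]
          refine ⟨-(d0 * j + b'' * (1 + q) + p), ?_⟩
          rw [hj, hb'']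
          linear_combination (-(2 * b'' + 1) * (1 + q)) * hd0 + (-2 * q) * hp
        · refine mul_inv_eq_iff_eq_mul.1 ?_
          rw [← conj_mul, conj_zpow_eq hc, hi, ← mul_assoc, ← zpow_add, hrs]
          refine ⟨-(d * j + b' * p), ?_⟩
          rw [hj]
          linear_combination (-b' * (1 + q)) * hd + (-2 * q * b') * hp
        · rw [hi]
          rw [show r ^ j * s * s * (r ^ j * s)⁻¹ = r ^ j * (s * r ^ (-j) * s⁻¹) * s by group]
          rw [conj_zpow_eq ha0, ← zpow_add, hrs]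
          refine ⟨d0 * j + b' * p, ?_⟩
          rw [hj]
          linear_combination b' * (1 + q) * hd0 + (2 * q * b') * hp
    rcases hac a ha ca hca with h | ⟨i, hi⟩ | ⟨-, -, i, hi⟩ | ⟨-, -, h⟩
    · exact key a ha ha1 _ _ hca hba (Or.inl h)
    rotate_left 2
    · exact key a ha ha1 _ _ hca hba (Or.inr h)
    all_goals
      rcases hac b hb cb hcb with h | ⟨j, hj⟩ | ⟨-, -, j, hj⟩ | ⟨-, -, h⟩
      · exact key b hb hb1 _ _ hcb hbb (Or.inl h)
      rotate_left 2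
      · exact key b hb hb1 _ _ hcb hbb (Or.inr h)
    · exact key _ (mul_mem ha hb) hab _ _ hcab hbab
        (Or.inl ⟨i * cb - j, by linear_combination cb * hi - hj⟩)
    · exact key _ (mul_mem ha hb) hab _ _ hcab hbab
        (Or.inr ⟨i * cb - j - 1, by linear_combination cb * hi - hj⟩)
    · exact key _ (mul_mem ha hb) hab _ _ hcab hbab
        (Or.inr ⟨ca * j - i - 1, by linear_combination ca * hj - hi⟩)
    · exact key _ (mul_mem ha hb) hab _ _ hcab hbab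
        (Or.inl ⟨1 + i + j + q * (1 + 2 * i) * (1 + 2 * j), by
          linear_combination cb * hi + (1 + 2 * q * (1 + 2 * i)) * hj⟩)

end CfsgLib.ClassTech.FourGroupRank
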